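import Groth.Prelude.Def_Flatn
import Mathlib.AlgebraicGeometry.PullbackCarrier

/-! `Mor_S(X, U)` is an open subfunctor of `Mor_S(X, Y)` for `X/S` universally closed. -/

set_option autoImplicit false
set_option linter.style.haveILetI false
universe u
open CategoryTheory CategoryTheory.Limits AlgebraicGeometry Opposite

namespace Groth.Agent.H17.MorOpen

variable {X Y U S : Scheme.{u}} (gX : X ⟶ S) (gY : Y ⟶ S) (j : U ⟶ Y) {M : Over S}

/-- `T ×_S X → T' ×_S X`. -/
noncomputable def bc {T T' : Over S} (φ : T ⟶ T') : pullback T.hom gX ⟶ pullback T'.hom gX :=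
  ((Over.map gX).map ((Over.pullback gX).map φ)).left

theorem bc_eq {T T' : Over S} (φ : T ⟶ T') :
    bc gX φ = pullback.lift (pullback.fst _ _ ≫ φ.left) (pullback.snd _ _)
      (by rw [Category.assoc, Over.w, pullback.condition]) := rfl

theorem isPullback_bc {T T' : Over S} (φ : T ⟶ T') :
    IsPullback (bc gX φ) (pullback.fst T.hom gX) (pullback.fst T'.hom gX) φ.left := by
  refine IsPullback.of_right (t := (IsPullback.of_hasPullback T'.hom gX).flip) ?_ ?_
  · rw [bc_eq, pullback.lift_snd, Over.w]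
    exact (IsPullback.of_hasPullback T.hom gX).flip
  · rw [bc_eq, pullback.lift_fst]

variable {gX gY} (e : (Flatn.morS gX gY).RepresentableBy M)

/-- `e.homEquiv` with values in morphism sets. -/
noncomputable def cls (T : Over S) :
    (T ⟶ M) ≃ ((Over.map gX).obj ((Over.pullback gX).obj T) ⟶ Over.mk gY) :=
  e.homEquiv

/-- The universal morphism `M ×_S X → Y`. -/
noncomputable def univ : pullback M.hom gX ⟶ Y := (cls e M (𝟙 M)).left

theorem homEquiv_left {T : Over S} (φ : T ⟶ M) : (cls e T φ).left = bc gX φ ≫ univ e := by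
  have h := e.homEquiv_comp φ (𝟙 M)
  rw [Category.comp_id] at h
  exact congrArg CommaMorphism.left h

variable [UniversallyClosed gX] [IsOpenImmersion j]

/-- The open locus of `M` where the universal morphism lands in `U`. -/
noncomputable def openLocus : M.left.Opens :=
  ⟨((pullback.fst M.hom gX).base '' ((univ e).base ⁻¹' (Set.range j.base)ᶜ))ᶜ, by
    rw [isOpen_compl_iff]
    exact (pullback.fst M.hom gX).isClosedMap _
      ((j.isOpenEmbedding.isOpen_range.isClosed_compl).preimage (univ e).continuous)⟩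

theorem range_subset_iff {T : Over S} (φ : T ⟶ M) :
    Set.range φ.left.base ⊆ (openLocus j e : Set M.left) ↔
      Set.range (bc gX φ ≫ univ e).base ⊆ Set.range j.base := by
  constructor
  · rintro h _ ⟨q, rfl⟩
    by_contra hq
    refine h ⟨pullback.fst T.hom gX q, rfl⟩ ⟨bc gX φ q, hq, ?_⟩
    rw [← Scheme.Hom.comp_apply, (isPullback_bc gX φ).w]; rfl
  · rintro h _ ⟨t, rfl⟩ ⟨p, hp, hpt⟩
    obtain ⟨q, hq, -⟩ := Scheme.exists_preimage_of_isPullback (isPullback_bc gX φ) p t hpt
    exact hp (h ⟨q, by rw [Scheme.Hom.comp_apply, hq]⟩)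

/-- The inclusion of the open locus, over `S`. -/
noncomputable def ι₀ : Over.mk ((openLocus j e).ι ≫ M.hom) ⟶ M := Over.homMk (openLocus j e).ι rfl

/-- The inclusion of `U`, over `S`. -/
noncomputable def j₀ : Over.mk (j ≫ gY) ⟶ Over.mk gY := Over.homMk j rfl

/-- The representation of `Mor_S(X, U)` by the open locus. -/
noncomputable def homEquiv₀ (T : Over S) :
    (T ⟶ Over.mk ((openLocus j e).ι ≫ M.hom)) ≃
      ((Over.map gX).obj ((Over.pullback gX).obj T) ⟶ Over.mk (j ≫ gY)) where
  toFun φ :=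
    Over.homMk (IsOpenImmersion.lift j (bc gX (φ ≫ ι₀ j e) ≫ univ e)
      ((range_subset_iff j e _).1 (by
        rintro _ ⟨t, rfl⟩
        exact (φ.left t).2)))
      (by
        show IsOpenImmersion.lift j _ _ ≫ j ≫ gY = _
        rw [IsOpenImmersion.lift_fac_assoc, ← homEquiv_left]
        exact Over.w (cls e T (φ ≫ ι₀ j e)))
  invFun b :=
    Over.homMk (IsOpenImmersion.lift (openLocus j e).ι
      ((cls e T).symm (b ≫ j₀ j)).left (by
        rw [Scheme.Opens.range_ι, range_subset_iff, ← homEquiv_left, Equiv.apply_symm_apply]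
        exact Set.range_comp_subset_range b.left.base j.base))
      (by
        show IsOpenImmersion.lift _ _ _ ≫ (openLocus j e).ι ≫ M.hom = _
        rw [IsOpenImmersion.lift_fac_assoc, Over.w])
  left_inv φ := by
    apply Over.OverMorphism.ext
    rw [← cancel_mono (openLocus j e).ι]
    refine (IsOpenImmersion.lift_fac _ _ _).trans ?_
    refine congrArg CommaMorphism.left ((Equiv.symm_apply_eq (cls e T)).2 ?_ :
      (cls e T).symm _ = φ ≫ ι₀ j e)
    refine Over.OverMorphism.ext ?_
    rw [homEquiv_left]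
    exact IsOpenImmersion.lift_fac _ _ _
  right_inv b := by
    apply Over.OverMorphism.ext
    rw [← cancel_mono j]
    refine (IsOpenImmersion.lift_fac _ _ _).trans ?_
    rw [← homEquiv_left]
    refine Eq.trans (congrArg (fun ψ : T ⟶ M => (cls e T ψ).left)
      (Over.OverMorphism.ext (IsOpenImmersion.lift_fac _ _ _) : _ = (cls e T).symm (b ≫ j₀ j))) ?_
    rw [Equiv.apply_symm_apply]; rfl

theorem homEquiv₀_fac {T : Over S} (φ : T ⟶ Over.mk ((openLocus j e).ι ≫ M.hom)) :
    cls e T (φ ≫ ι₀ j e) = homEquiv₀ j e T φ ≫ j₀ j := by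
  apply Over.OverMorphism.ext
  rw [homEquiv_left]
  exact (IsOpenImmersion.lift_fac _ _ _).symm

/-- `Mor_S(X, U)` is represented by an open subscheme of `M`. -/
noncomputable def representableBy :
    (Flatn.morS gX (j ≫ gY)).RepresentableBy (Over.mk ((openLocus j e).ι ≫ M.hom)) where
  homEquiv := homEquiv₀ j e _
  homEquiv_comp {T T'} ψ φ := by
    haveI : Mono (j₀ j : Over.mk (j ≫ gY) ⟶ Over.mk gY) := by
      haveI : Mono (j₀ j : Over.mk (j ≫ gY) ⟶ Over.mk gY).left := inferInstanceAs (Mono j)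
      exact Over.mono_of_mono_left _
    refine (cancel_mono (j₀ j : Over.mk (j ≫ gY) ⟶ Over.mk gY)).1 ?_
    show homEquiv₀ j e T (ψ ≫ φ) ≫ _ =
      ((Over.map gX).map ((Over.pullback gX).map ψ) ≫ homEquiv₀ j e T' φ) ≫ _
    rw [Category.assoc, ← homEquiv₀_fac, ← homEquiv₀_fac, Category.assoc]
    exact e.homEquiv_comp ψ _

end Groth.Agent.H17.MorOpen
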